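import Mathlib
import Cfsg.Prelude.Def_Balance
import Cfsg.Prelude.Def_CaseTheorems
import Cfsg.Agent.Lib.FgsB.RankThree.Complete

/-!
# Signalizer functors on a group with a connected commuting graph
-/

set_option autoImplicit false
set_option linter.style.haveILetI false

open scoped Pointwise

namespace CfsgLib.FgsB.RankThree

open Cfsg Subgroup CfsgLib.Base CfsgLib.Signalizer CfsgLib.Components

universe u

variable {G : Type u} [Group G] [Finite G] {p : ℕ} [Fact p.Prime]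

theorem exists_cube {H : Subgroup G} (h : ¬ PRankLE p 2 H) :
    ∃ B ≤ H, IsElementaryAbelian p B ∧ p ^ 3 ≤ Nat.card B := by
  simp only [PRankLE, not_forall, not_le] at h
  obtain ⟨B, hB, hBp, hcard⟩ := h
  haveI := hB
  refine ⟨B.map H.subtype, map_subtype_le _, ⟨inferInstance, ?_⟩, ?_⟩
  · rintro _ ⟨b, hb, rfl⟩
    rw [← map_pow, hBp b hb, map_one]
  obtain ⟨k, hk⟩ := IsPGroup.iff_card.1 (elemAb_isPGroup (p := p) (A := B) ⟨hB, hBp⟩)
  rw [card_map_subtype, hk]
  rw [hk] at hcard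
  exact Nat.pow_le_pow_right (Fact.out : p.Prime).pos
    ((Nat.pow_lt_pow_iff_right (Fact.out : p.Prime).one_lt).1 hcard)

theorem not_rankLE_of_cube {A H : Subgroup G} (hA : IsElementaryAbelian p A)
    (hA3 : p ^ 3 ≤ Nat.card A) (hle : A ≤ H) : ¬ PRankLE p 2 H := by
  intro h
  have h1 := h (A.subgroupOf H)
    ⟨⟨fun a b => Subtype.ext (Subtype.ext (elemAb_comm hA a.2 b.2))⟩⟩
    fun a ha => Subtype.ext (by simpa using hA.2 a ha)
  rw [card_subgroupOf hle] at h1
  have := Nat.pow_lt_pow_right (Fact.out : p.Prime).one_lt (show 2 < 3 by norm_num)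
  omega

theorem elemAb_sup_of_comm {E F : Subgroup G} (hE : IsElementaryAbelian p E)
    (hF : IsElementaryAbelian p F) (h : ∀ a ∈ E, ∀ b ∈ F, a * b = b * a) :
    IsElementaryAbelian p (E ⊔ F : Subgroup G) := by
  have hEF : F ≤ centralizer (E : Set G) := fun b hb => mem_centralizer_iff.2 fun a ha => h a ha b hb
  refine ⟨⟨⟨fun a b => Subtype.ext ?_⟩⟩, fun x hx => ?_⟩
  · have hc : E ⊔ F ≤ centralizer ((E ⊔ F : Subgroup G) : Set G) :=
      sup_le
        (le_centralizer_iff.1 (sup_le (le_centralizer_iff.1 fun a ha =>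
          mem_centralizer_iff.2 fun b hb => elemAb_comm hE hb ha) hEF))
        (le_centralizer_iff.1 (sup_le (le_centralizer_iff.1 hEF) fun a ha =>
          mem_centralizer_iff.2 fun b hb => elemAb_comm hF hb ha))
    exact mem_centralizer_iff.1 (hc b.2) a a.2
  · rw [← SetLike.mem_coe, coe_mul_of_right_le_normalizer_left E F
      (hEF.trans (centralizer_le_normalizer _))] at hx
    obtain ⟨a, ha, b, hb, rfl⟩ := Set.mem_mul.1 hx
    rw [(show Commute a b from h a ha b hb).mul_pow, hE.2 a ha, hF.2 b hb, one_mul]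

/-- A point: an element of order `p` whose centraliser has rank at least three. -/
def HighPt (p : ℕ) (a : G) : Prop :=
  orderOf a = p ∧ ¬ PRankLE p 2 ↥(centralizer ({a} : Set G))

theorem highPt_of_mem {A : Subgroup G} (hA : IsElementaryAbelian p A) (hA3 : p ^ 3 ≤ Nat.card A)
    {a : G} (ha : a ∈ A) (ha1 : a ≠ 1) : HighPt p a :=
  ⟨orderOf_eq_prime (hA.2 a ha) ha1, not_rankLE_of_cube hA hA3 fun _ hb =>
    mem_centralizer_singleton_iff.2 (elemAb_comm hA hb ha)⟩

theorem exists_cube_of_highPt {a : G} (ha : HighPt p a) :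
    ∃ A : Subgroup G, a ∈ A ∧ IsElementaryAbelian p A ∧ p ^ 3 ≤ Nat.card A := by
  obtain ⟨B, hB, hBe, hB3⟩ := exists_cube ha.2
  have hz : IsElementaryAbelian p (zpowers a) := by
    refine ⟨inferInstance, fun x hx => ?_⟩
    obtain ⟨i, rfl⟩ := mem_zpowers_iff.1 hx
    rw [← zpow_natCast, ← zpow_mul, mul_comm, zpow_mul, zpow_natCast, ← ha.1, pow_orderOf_eq_one,
      one_zpow]
  refine ⟨zpowers a ⊔ B, le_sup_left (a := zpowers a) (mem_zpowers a),
    elemAb_sup_of_comm hz hBe fun x hx b hb => ?_, hB3.trans (Subgroup.card_le_of_le le_sup_right)⟩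
  obtain ⟨i, rfl⟩ := mem_zpowers_iff.1 hx
  exact ((show Commute a b from (mem_centralizer_singleton_iff.1 (hB hb)).symm).zpow_left i)

/-- The subgroup generated by the values on `E`. -/
def valuesSup (θ : G → Subgroup G) (E : Subgroup G) : Subgroup G :=
  ⨆ a : {a : G // a ∈ E ∧ a ≠ 1}, θ a

/-- An equivariant balanced solvable signalizer assignment on a group with a connected graph and
trivial core vanishes. -/
theorem eq_bot_of_connected (hO : pPrimeCore p G = ⊥)
    (hconn : IsRankGraphConnected p 2 G) (θ : G → Subgroup G)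
    (hC : ∀ a : G, HighPt p a → θ a ≤ centralizer ({a} : Set G) ∧ ¬ p ∣ Nat.card ↥(θ a) ∧
      Group.IsSolvable ↥(θ a))
    (heq : ∀ a g : G, HighPt p a → θ (g * a * g⁻¹) = (θ a).map (MulAut.conj g).toMonoidHom)
    (hbal : ∀ a b : G, HighPt p a → HighPt p b → a * b = b * a →
      θ a ⊓ centralizer ({b} : Set G) ≤ θ b)
    {a : G} (ha : HighPt p a) : θ a = ⊥ := by
  have hp := (Fact.out : p.Prime)
  have hfun : ∀ A : Subgroup G, IsElementaryAbelian p A → p ^ 3 ≤ Nat.card A →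
      IsSolvableSignalizerFunctor p A θ := by
    intro A hA hA3
    refine ⟨⟨fun x hx hx1 => (hC x (highPt_of_mem hA hA3 hx hx1)).1,
      fun x hx hx1 => (hC x (highPt_of_mem hA hA3 hx hx1)).2.1, fun x hx hx1 b hb y hy => ?_,
      fun x hx hx1 b hb hb1 => hbal x b (highPt_of_mem hA hA3 hx hx1) (highPt_of_mem hA hA3 hb hb1)
        (elemAb_comm hA hx hb)⟩, fun x hx hx1 => (hC x (highPt_of_mem hA hA3 hx hx1)).2.2⟩
    have h1 := heq x b (highPt_of_mem hA hA3 hx hx1)
    rw [elemAb_comm hA hb hx, mul_inv_cancel_right] at h1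
    rw [h1]
    exact ⟨y, hy, rfl⟩
  have hsub : ∀ A E : Subgroup G, IsElementaryAbelian p A → p ^ 3 ≤ Nat.card A → E ≤ A →
      p ^ 2 ≤ Nat.card E → valuesSup θ E = valuesSup θ A := by
    intro A E hA hA3 hEA hE2
    refine le_antisymm (iSup_le fun x =>
      le_iSup (fun y : {y : G // y ∈ A ∧ y ≠ 1} => θ y) ⟨x, hEA x.2.1, x.2.2⟩) (iSup_le fun x => ?_)
    have hθ := hfun A hA hA3
    refine Goldschmidt.le_of_points hA hEA hE2 (hθ.1.2.1 x x.2.1 x.2.2)
      (hEA.trans (conj_invariant_iff.1 (hθ.1.2.2.1 x x.2.1 x.2.2))) fun e he he1 => ?_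
    exact (hθ.1.2.2.2 x x.2.1 x.2.2 e (hEA he) he1).trans
      (le_iSup (fun y : {y : G // y ∈ E ∧ y ≠ 1} => θ y) ⟨e, he, he1⟩)
  have hvert : ∀ A : Subgroup G, IsElementaryAbelian p A → p ^ 3 ≤ Nat.card A →
      IsRankGraphVertex p 2 A := fun A hA hA3 =>
    ⟨hA, (Nat.pow_le_pow_right hp.pos (by norm_num)).trans hA3,
      not_rankLE_of_cube hA hA3 fun _ hb => mem_centralizer_iff.2 fun _ hc => elemAb_comm hA hc hb⟩
  have hedge : ∀ E F : Subgroup G, IsRankGraphVertex p 2 E → IsRankGraphVertex p 2 F →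
      (∀ x ∈ E, ∀ y ∈ F, x * y = y * x) → valuesSup θ E = valuesSup θ F := by
    intro E F hE hF hEF
    by_cases hEFeq : E = F
    · rw [hEFeq]
    have hA := elemAb_sup_of_comm hE.1 hF.1 hEF
    obtain ⟨k, hk⟩ := IsPGroup.iff_card.1 (elemAb_isPGroup hA)
    have hA3 : p ^ 3 ≤ Nat.card ↥(E ⊔ F) := by
      by_contra hlt
      rw [hk, Nat.pow_le_pow_iff_right hp.one_lt] at hlt
      have h2 : Nat.card ↥(E ⊔ F) ≤ p ^ 2 := hk ▸ Nat.pow_le_pow_right hp.pos (by omega)
      exact hEFeq ((eq_of_le_of_card_ge le_sup_left (h2.trans hE.2.1)).trans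
        (eq_of_le_of_card_ge le_sup_right (h2.trans hF.2.1)).symm)
    rw [hsub _ E hA hA3 le_sup_left hE.2.1, hsub _ F hA hA3 le_sup_right hF.2.1]
  have hconst : ∀ E F : Subgroup G, IsRankGraphVertex p 2 E → IsRankGraphVertex p 2 F →
      valuesSup θ E = valuesSup θ F := by
    intro E F hE hF
    have h := hconn E F hE hF
    induction h with
    | refl => rfl
    | tail _ h ih => exact (ih h.1).trans (hedge _ _ h.1 h.2.1 h.2.2)
  obtain ⟨A, haA, hA, hA3⟩ := exists_cube_of_highPt ha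
  set W := valuesSup θ A with hW
  have hnorm : W.Normal := by
    refine normalizer_eq_top_iff.1 (top_le_iff.1 fun g _ => ?_)
    refine (le_normalizer_of_conj_mem (X := ⊤) fun g' _ y hy => ?_) (mem_top g)
    set A' := A.map (MulAut.conj g').toMonoidHom with hA'
    have hA'e : IsElementaryAbelian p A' := by
      haveI := hA.1
      refine ⟨inferInstance, ?_⟩
      rintro _ ⟨b, hb, rfl⟩
      rw [← map_pow, hA.2 b hb, map_one]
    have hA'3 : p ^ 3 ≤ Nat.card A' := by rw [hA', CfsgLib.Base.card_map_conj]; exact hA3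
    rw [hW, hconst A A' (hvert A hA hA3) (hvert A' hA'e hA'3)]
    have hle : valuesSup θ A ≤ (valuesSup θ A').comap (MulAut.conj g').toMonoidHom := by
      refine iSup_le fun x z hz => mem_comap.2 ?_
      refine le_iSup (fun w : {w : G // w ∈ A' ∧ w ≠ 1} => θ w)
        ⟨g' * (x : G) * g'⁻¹, ⟨⟨x, x.2.1, rfl⟩, fun e => x.2.2 (conj_eq_one_iff.1 e)⟩⟩ ?_
      rw [heq x g' (highPt_of_mem hA hA3 x.2.1 x.2.2)]
      exact ⟨z, hz, rfl⟩
    exact hle hy
  obtain ⟨X, hX, hXle⟩ := comp_of_three_le hA hA3 (hfun A hA hA3)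
  have hWX : W ≤ X := iSup_le fun x => hXle x x.2.1 x.2.2
  have hWO : W ≤ pPrimeCore p G :=
    le_pPrimeCore_of_not_dvd fun hd => hX.2.1 (hd.trans (card_dvd_of_le hWX))
  refine le_bot_iff.1 (le_trans ?_ (hWO.trans hO.le))
  exact le_iSup (fun y : {y : G // y ∈ A ∧ y ≠ 1} => θ y)
    ⟨a, haA, fun e => hp.one_lt.ne (by rw [← ha.1, e, orderOf_one])⟩

end CfsgLib.FgsB.RankThree
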